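import Mathlib
import Cfsg.Prelude.Def_GeometricClasses
import Cfsg.Agent.Lib.Forms.Max.SL3.Singer.Basic

/-!
# Subgroups of the special linear group of degree three without abelian normal subgroups: vocabulary

`G` is a subgroup of `GL₃(F)` inside `SL₃(F)`, `Bar G` its image modulo scalars.
-/

set_option autoImplicit false

namespace Cfsg.Agent.PSLThree

open Matrix
open Cfsg.Agent.Forms.Max.SL3.Singer (Tr)

variable {F : Type*} [Field F]

/-- the image of `G` modulo scalars -/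
abbrev Bar (G : Subgroup (GL (Fin 3) F)) : Type _ :=
  ↥G ⧸ (Cfsg.Geo.scalars (Fin 3) F).subgroupOf G

/-- `G` contains a transvection -/
def HasTrv (G : Subgroup (GL (Fin 3) F)) : Prop :=
  ∃ u φ : Fin 3 → F, u ≠ 0 ∧ φ ≠ 0 ∧ Tr G u φ

/-- a perfect irreducible group of determinant one which is simple modulo scalars -/
structure Core (P : Subgroup (GL (Fin 3) F)) : Prop where
  le : P ≤ Cfsg.Geo.specialLinear (Fin 3) F
  perfect : ⁅P, P⁆ = P
  simple : IsSimpleGroup (Bar P)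
  nonabelian : ¬ IsMulCommutative (Bar P)
  irred : Cfsg.Geo.ActsIrreducibly (Cfsg.Geo.matrixSet P)

/-- `G` has the normal core `P` with scalar centraliser -/
structure Over (G P : Subgroup (GL (Fin 3) F)) : Prop where
  core : Core P
  le_sl : G ≤ Cfsg.Geo.specialLinear (Fin 3) F
  le : P ≤ G
  normal : ∀ g ∈ G, ∀ x ∈ P, g * x * g⁻¹ ∈ P
  cent : ∀ g ∈ G, (∀ x ∈ P, g * x * g⁻¹ * x⁻¹ ∈ Cfsg.Geo.scalars (Fin 3) F) →
    g ∈ Cfsg.Geo.scalars (Fin 3) F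

/-- in the basis given by `T`, `P` is the special linear group over the subfield `K` -/
def LinOn (K : Subfield F) (T : GL (Fin 3) F) (P : Subgroup (GL (Fin 3) F)) : Prop :=
  ∀ x : GL (Fin 3) F, x ∈ P ↔ (x : Matrix (Fin 3) (Fin 3) F).det = 1 ∧
    ∀ i j, ((T * x * T⁻¹ : GL (Fin 3) F) : Matrix (Fin 3) (Fin 3) F) i j ∈ K

/-- in the basis given by `T`, `P` is the special unitary group of the standard form over the subfield `K`
with `q₀ ^ 2` elements -/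
def UniOn (K : Subfield F) (q₀ : ℕ) (T : GL (Fin 3) F) (P : Subgroup (GL (Fin 3) F)) : Prop :=
  Nat.card K = q₀ ^ 2 ∧
  ∀ x : GL (Fin 3) F, x ∈ P ↔ (x : Matrix (Fin 3) (Fin 3) F).det = 1 ∧
    (∀ i j, ((T * x * T⁻¹ : GL (Fin 3) F) : Matrix (Fin 3) (Fin 3) F) i j ∈ K) ∧
    ((T * x * T⁻¹ : GL (Fin 3) F) : Matrix (Fin 3) (Fin 3) F)ᵀ *
      ((T * x * T⁻¹ : GL (Fin 3) F) : Matrix (Fin 3) (Fin 3) F).map (· ^ q₀) = 1

/-- the three-dimensional linear type -/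
def LinType (P : Subgroup (GL (Fin 3) F)) : Prop :=
  ∃ (K : Subfield F) (T : GL (Fin 3) F), LinOn K T P

/-- the three-dimensional unitary type -/
def UniType (P : Subgroup (GL (Fin 3) F)) : Prop :=
  ∃ (K : Subfield F) (q₀ : ℕ) (T : GL (Fin 3) F), UniOn K q₀ T P

/-- the groups without transvections -/
def SmallType (F : Type*) [Field F] [Fintype F] (p α : ℕ) (N : Type*) [Group N] : Prop :=
  (∃ (K : Type) (_ : Field K) (_ : Fintype K) (β : ℕ), Fintype.card K = p ^ β ∧ β ∣ α ∧ p ^ β ≠ 3 ∧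
    Nonempty (N ≃* Matrix.ProjectiveSpecialLinearGroup (Fin 2) K)) ∨
  (p ≠ 5 ∧ (p ^ α % 10 = 1 ∨ p ^ α % 10 = 9) ∧ ∃ (K : Type) (_ : Field K) (_ : Fintype K),
    Fintype.card K = 5 ∧ Nonempty (N ≃* Matrix.ProjectiveSpecialLinearGroup (Fin 2) K)) ∨
  (p ≠ 7 ∧ (p ^ α) ^ 3 % 7 = 1 ∧ ∃ (K : Type) (_ : Field K) (_ : Fintype K),
    Fintype.card K = 7 ∧ Nonempty (N ≃* Matrix.ProjectiveSpecialLinearGroup (Fin 2) K)) ∨
  (p ≠ 3 ∧ p ^ α % 3 = 1 ∧ (p = 5 ∨ p ^ α % 5 = 1 ∨ p ^ α % 5 = 4) ∧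
    Nonempty (N ≃* ↥(alternatingGroup (Fin 6)))) ∨
  (p = 5 ∧ Even α ∧ Nonempty (N ≃* ↥(alternatingGroup (Fin 7))))

end Cfsg.Agent.PSLThree
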