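import Mathlib
import Cfsg.Agent.Lib.PSLThree.Basic.Start
import Cfsg.Agent.Lib.PSLThree.Small.Main
import Cfsg.Agent.Lib.PSLThree.Over.Classical
import Cfsg.Agent.Lib.PSLThree.Over.Small

/-!
# The subgroups of `PSL₃(q)`, `q` odd, without abelian normal subgroups

The two inputs are the transvection theorem and the theorem that excludes non-dihedral Sylow subgroups.
-/

set_option autoImplicit false

namespace Cfsg.Agent.PSLThree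

open Matrix

variable {F : Type*} [Field F] [Fintype F]

theorem transport_index {A B : Type*} [Group A] [Group B] (f : A ≃* B) {n : ℕ} {C : Type*} [Group C]
    (h : ∃ L : Subgroup A, L.index = n ∧ Nonempty (↥L ≃* C)) :
    ∃ L : Subgroup B, L.index = n ∧ Nonempty (↥L ≃* C) := by
  obtain ⟨L, hL, ⟨e⟩⟩ := h
  exact ⟨L.map f.toMonoidHom, by rw [← hL]; exact Subgroup.index_map_equiv L f,
    ⟨(f.subgroupMap L).symm.trans e⟩⟩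

theorem main (p α : ℕ) [Fact p.Prime] (hp : p ≠ 2) (hF : Fintype.card F = p ^ α)
    (hC : ∀ P : Subgroup (GL (Fin 3) F), Core P → HasTrv P → LinType P ∨ UniType P)
    (hD : ∀ P : Subgroup (GL (Fin 3) F), Core P → ¬ HasTrv P → ∀ S : Sylow 2 (Bar P),
      ∃ n, 2 ≤ n ∧ Nonempty ((S : Subgroup (Bar P)) ≃* DihedralGroup n))
    (H : Subgroup (Matrix.ProjectiveSpecialLinearGroup (Fin 3) F)) (hH : H ≠ ⊥)
    (hN : ∀ N : Subgroup ↥H, N.Normal → IsMulCommutative ↥N → (∃ r : ℕ, r.Prime ∧ ∀ x ∈ N, x ^ r = 1) → N = ⊥) :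
    (∃ (K : Type) (_ : Field K) (_ : Fintype K) (β : ℕ), Fintype.card K = p ^ β ∧ β ∣ α ∧ Nonempty (↥H ≃* Matrix.ProjectiveSpecialLinearGroup (Fin 3) K)) ∨
    (∃ (K : Type) (_ : Field K) (_ : Fintype K) (β : ℕ), Fintype.card K = p ^ (2 * β) ∧ 2 * β ∣ α ∧ Nonempty (↥H ≃* Cfsg.PSU 3 K (p ^ β))) ∨
    (∃ (K : Type) (_ : Field K) (_ : Fintype K) (β : ℕ), Fintype.card K = p ^ β ∧ 3 ∣ p ^ β - 1 ∧ 3 * β ∣ α ∧ ∃ L : Subgroup ↥H, L.index = 3 ∧ Nonempty (↥L ≃* Matrix.ProjectiveSpecialLinearGroup (Fin 3) K)) ∨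
    (∃ (K : Type) (_ : Field K) (_ : Fintype K) (β : ℕ), Fintype.card K = p ^ (2 * β) ∧ 3 ∣ p ^ β + 1 ∧ 6 * β ∣ α ∧ ∃ L : Subgroup ↥H, L.index = 3 ∧ Nonempty (↥L ≃* Cfsg.PSU 3 K (p ^ β))) ∨
    (∃ (K : Type) (_ : Field K) (_ : Fintype K) (β : ℕ), Fintype.card K = p ^ β ∧ β ∣ α ∧ p ^ β ≠ 3 ∧ (Nonempty (↥H ≃* Matrix.ProjectiveSpecialLinearGroup (Fin 2) K) ∨ Nonempty (↥H ≃* (GL (Fin 2) K ⧸ Subgroup.center (GL (Fin 2) K))))) ∨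
    ((p ^ α % 10 = 1 ∨ p ^ α % 10 = 9) ∧ ∃ (K : Type) (_ : Field K) (_ : Fintype K), Fintype.card K = 5 ∧ Nonempty (↥H ≃* Matrix.ProjectiveSpecialLinearGroup (Fin 2) K)) ∨
    ((p ^ α) ^ 3 % 7 = 1 ∧ ∃ (K : Type) (_ : Field K) (_ : Fintype K), Fintype.card K = 7 ∧ Nonempty (↥H ≃* Matrix.ProjectiveSpecialLinearGroup (Fin 2) K)) ∨
    (p = 5 ∧ Even α ∧ (Nonempty (↥H ≃* ↥(alternatingGroup (Fin 6))) ∨ Nonempty (↥H ≃* ↥(alternatingGroup (Fin 7))) ∨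
      ∃ L : Subgroup ↥H, L.index = 2 ∧ Nonempty (↥L ≃* ↥(alternatingGroup (Fin 6))))) ∨
    ((p ^ α % 30 = 1 ∨ p ^ α % 30 = 19) ∧ Nonempty (↥H ≃* ↥(alternatingGroup (Fin 6)))) := by
  have : CharP F p := charP_of_card_eq_prime_pow hF
  have h2 : (2 : F) ≠ 0 := Ring.two_ne_zero (by rwa [ringChar.eq F p])
  obtain ⟨G, P, hO, ⟨f⟩⟩ := exists_over h2 H hH hN
  by_cases hT : HasTrv P
  · rcases hC P hO.core hT with hL | hU
    · rcases lin_over p α hp hF hO hL with ⟨K, i, j, β, a, b, ⟨e⟩⟩ | ⟨K, i, j, β, a, b, c, hL⟩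
      · exact Or.inl ⟨K, i, j, β, a, b, ⟨f.symm.trans e⟩⟩
      · exact Or.inr (Or.inr (Or.inl ⟨K, i, j, β, a, b, c, transport_index f hL⟩))
    · rcases uni_over p α hp hF hO hU with ⟨K, i, j, β, a, b, ⟨e⟩⟩ | ⟨K, i, j, β, a, b, c, hL⟩
      · exact Or.inr (Or.inl ⟨K, i, j, β, a, b, ⟨f.symm.trans e⟩⟩)
      · exact Or.inr (Or.inr (Or.inr (Or.inl ⟨K, i, j, β, a, b, c, transport_index f hL⟩)))
  · refine Or.inr (Or.inr (Or.inr (Or.inr ?_)))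
    rcases small_over p α hp hF hO hT (Small.small_type p α hp hF hO.core hT (hD P hO.core hT)) with
      ⟨K, i, j, β, a, b, c, h⟩ | ⟨a, K, i, j, b, ⟨e⟩⟩ | ⟨a, K, i, j, b, ⟨e⟩⟩ | ⟨a, b, h⟩ | ⟨a, ⟨e⟩⟩
    · exact Or.inl ⟨K, i, j, β, a, b, c, h.imp (Nonempty.map (f.symm.trans ·)) (Nonempty.map (f.symm.trans ·))⟩
    · exact Or.inr (Or.inl ⟨a, K, i, j, b, ⟨f.symm.trans e⟩⟩)
    · exact Or.inr (Or.inr (Or.inl ⟨a, K, i, j, b, ⟨f.symm.trans e⟩⟩))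
    · exact Or.inr (Or.inr (Or.inr (Or.inl ⟨a, b, h.imp (Nonempty.map (f.symm.trans ·))
        (Or.imp (Nonempty.map (f.symm.trans ·)) (transport_index f))⟩)))
    · exact Or.inr (Or.inr (Or.inr (Or.inr ⟨a, ⟨f.symm.trans e⟩⟩)))

end Cfsg.Agent.PSLThree
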